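import Mathlib
import Cfsg.Agent.H218.Fus.PK
import Cfsg.Agent.H775.PU.Bound

/-!
# S5261 (hub helper802), task 5404 = TE-P2 (helper205): the inequality for two `p`-subgroups, abstract form

`G` is a finite group with a strongly `p`-embedded subgroup `X`, `V` a finite faithful `F_p G`-module, `A`, `B ≤ X` are
`p`-subgroups, `B ≠ 1`.

* `sq_fix` : `|A|² ≤ |V : C_V(A)| |V : C_V(B)|`;
* `sq_com` : `|A|² ≤ |[V,A]| |[V,B]|`.
-/

set_option autoImplicit false
set_option linter.unusedSectionVars false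

namespace Cfsg.Agent.H205.TE

open Subgroup Cfsg Cfsg.Agent.H218.Fus Cfsg.Agent.H775.PU

universe u

section SE

variable {G : Type*} [Group G] [Finite G] {p : ℕ} [hp : Fact p.Prime] {X : Subgroup G}

/-- a `p`-subgroup meeting `X` nontrivially is in `X` -/
theorem le_of_inf (hX : SE p X) {P : Subgroup G} (hP : IsPGroup p P) {q : G} (hqP : q ∈ P) (hqX : q ∈ X) (hq1 : q ≠ 1) :
    P ≤ X := by
  by_contra hcon
  have hnil : Group.IsNilpotent P := hP.isNilpotent
  have hne : X.subgroupOf P ≠ ⊤ := by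
    rw [Ne, subgroupOf_eq_top]
    exact hcon
  have h1 := Group.normalizerCondition_of_isNilpotent (X.subgroupOf P) hne.lt_top
  obtain ⟨g, hg, hgX⟩ := SetLike.exists_of_lt h1
  obtain ⟨k, hk⟩ := hP ⟨q, hqP⟩
  apply hX.se q hqX hq1 ⟨k, congrArg Subtype.val hk⟩ g (fun h => hgX (mem_subgroupOf.2 h))
  have h2 := (mem_normalizer_iff.1 hg ⟨q, hqP⟩).1 (mem_subgroupOf.2 hqX)
  exact mem_subgroupOf.1 h2

/-- there is no nontrivial normal `p`-subgroup -/
theorem normal_eq_bot (hX : SE p X) {q : G} (hqX : q ∈ X) (hq1 : q ≠ 1) (hqp : ∃ k, q ^ p ^ k = 1) {C : Subgroup G}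
    (hCn : C.Normal) (hC : IsPGroup p C) : C = ⊥ := by
  have hQ : IsPGroup p (zpowers q) := by
    rintro ⟨y, hy⟩
    obtain ⟨k, hk⟩ := hqp
    obtain ⟨l, rfl⟩ := mem_zpowers_iff.1 hy
    refine ⟨k, Subtype.ext ?_⟩
    change (q ^ l) ^ p ^ k = 1
    rw [← zpow_natCast, ← zpow_mul, mul_comm, zpow_mul, zpow_natCast, hk, one_zpow]
  have hP : IsPGroup p (zpowers q ⊔ C : Subgroup G) :=
    hQ.to_sup_of_normal_right' hC (by rw [normalizer_eq_top C]; exact le_top)
  have hle : zpowers q ⊔ C ≤ X := le_of_inf hX hP (mem_sup_left (mem_zpowers q)) hqX hq1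
  rw [eq_bot_iff]
  intro c hc
  rw [mem_bot]
  by_contra hc1
  obtain ⟨g, hg⟩ := hX.ne
  obtain ⟨k, hk⟩ := hC ⟨c, hc⟩
  exact hX.se c (hle (mem_sup_right hc)) hc1 ⟨k, congrArg Subtype.val hk⟩ g hg (hle (mem_sup_right (hCn.conj_mem c hc g)))

/-- `IsStronglyPEmbedded` from `SE` -/
theorem strong_of_se (hX : SE p X) {q : G} (hqX : q ∈ X) (hq1 : q ≠ 1) (hqp : ∃ k, q ^ p ^ k = 1) :
    IsStronglyPEmbedded p X := by
  have hQ : IsPGroup p (zpowers q) := by
    rintro ⟨y, hy⟩
    obtain ⟨k, hk⟩ := hqp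
    obtain ⟨l, rfl⟩ := mem_zpowers_iff.1 hy
    refine ⟨k, Subtype.ext ?_⟩
    change (q ^ l) ^ p ^ k = 1
    rw [← zpow_natCast, ← zpow_mul, mul_comm, zpow_mul, zpow_natCast, hk, one_zpow]
  obtain ⟨P, hP⟩ := hQ.exists_le_sylow
  have hPX : (P : Subgroup G) ≤ X := le_of_inf hX P.isPGroup' (hP (mem_zpowers q)) hqX hq1
  refine ⟨?_, ?_, P, ?_⟩
  · obtain ⟨k, hk⟩ := hqp
    obtain ⟨i, -, hi⟩ := (Nat.dvd_prime_pow hp.out).1 (orderOf_dvd_of_pow_eq_one hk)
    have hi0 : i ≠ 0 := by
      rintro rfl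
      rw [pow_zero, orderOf_eq_one_iff] at hi
      exact hq1 hi
    exact (dvd_pow_self p hi0).trans (hi ▸ orderOf_dvd_natCard q)
  · obtain ⟨g, hg⟩ := hX.ne
    rintro rfl
    exact hg (mem_top g)
  · unfold kGeneratedCore
    rw [iSup_le_iff]
    rintro ⟨Q, hQP, hrk⟩ g hg
    have hQ1 : Q ≠ ⊥ := by
      rintro rfl
      apply hrk
      intro A _ _
      have : Nat.card A ≤ Nat.card (⊥ : Subgroup G) := Finite.card_subtype_le _
      simpa using this
    obtain ⟨x, hxQ, hx1⟩ := (bot_or_exists_ne_one Q).resolve_left hQ1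
    by_contra hgX
    obtain ⟨k, hk⟩ := P.isPGroup' ⟨x, hQP hxQ⟩
    exact hX.se x (hPX (hQP hxQ)) hx1 ⟨k, congrArg Subtype.val hk⟩ g hgX
      (hPX (hQP ((mem_normalizer_iff.1 hg x).1 hxQ)))

/-- the group generated by `B` and a conjugate of `A` -/
theorem exists_J (hX : SE p X) {A B : Subgroup G} (hAX : A ≤ X) (hBX : B ≤ X) (hB : IsPGroup p B) (hB1 : B ≠ ⊥) :
    ∃ x : G, ∃ X' : Subgroup (A.map (MulAut.conj x).toMonoidHom ⊔ B : Subgroup G), SE p X' ∧
      (A.map (MulAut.conj x).toMonoidHom).subgroupOf (A.map (MulAut.conj x).toMonoidHom ⊔ B) ≤ X' := by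
  obtain ⟨x, hx⟩ := hX.ne
  refine ⟨x, (X.map (MulAut.conj x).toMonoidHom).subgroupOf _, ?_, ?_⟩
  · have hmem : ∀ g : G, g ∈ X.map (MulAut.conj x).toMonoidHom ↔ x⁻¹ * g * x ∈ X := by
      intro g
      constructor
      · rintro ⟨y, hy, rfl⟩
        have e : x⁻¹ * (MulAut.conj x).toMonoidHom y * x = y := by
          change x⁻¹ * (x * y * x⁻¹) * x = y
          group
        rwa [e]
      · intro h
        refine ⟨_, h, ?_⟩
        change x * (x⁻¹ * g * x) * x⁻¹ = g
        group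
    constructor
    · obtain ⟨b, hb, hb1⟩ := (bot_or_exists_ne_one B).resolve_left hB1
      obtain ⟨k, hk⟩ := hB ⟨b, hb⟩
      refine ⟨⟨b, mem_sup_right hb⟩, fun h => ?_⟩
      rw [mem_subgroupOf, hmem] at h
      refine hX.se b (hBX hb) hb1 ⟨k, congrArg Subtype.val hk⟩ x⁻¹ (fun h' => hx (inv_mem_iff.1 h')) ?_
      rwa [inv_inv]
    · rintro ⟨q, hqJ⟩ hq hq1 ⟨k, hk⟩ ⟨g, hgJ⟩ hg hqg
      rw [mem_subgroupOf, hmem] at hq hg hqg
      change x⁻¹ * q * x ∈ X at hq
      change x⁻¹ * g * x ∉ X at hg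
      change x⁻¹ * (g * q * g⁻¹) * x ∈ X at hqg
      refine hX.se _ hq (fun h => hq1 (Subtype.ext ?_)) ⟨k, ?_⟩ _ hg ?_
      · have e : q = x * (x⁻¹ * q * x) * x⁻¹ := by group
        change q = 1
        rw [e, h, mul_one, mul_inv_cancel]
      · have h1 : q ^ p ^ k = 1 := congrArg Subtype.val hk
        have e : x⁻¹ * q * x = x⁻¹ * q * (x⁻¹)⁻¹ := by rw [inv_inv]
        rw [e, conj_pow, h1, mul_one, mul_inv_cancel]
      · have e : x⁻¹ * g * x * (x⁻¹ * q * x) * (x⁻¹ * g * x)⁻¹ = x⁻¹ * (g * q * g⁻¹) * x := by group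
        rwa [e]
  · intro g hg
    rw [mem_subgroupOf] at hg ⊢
    exact map_mono hAX hg

end SE

section Rep

variable {G V : Type u} [Group G] [Finite G] {p : ℕ} [hp : Fact p.Prime] [AddCommGroup V] [Module (ZMod p) V]
  [Finite V] {X : Subgroup G}

/-- `|A|² ≤ |V|` -/
theorem core_sq (h3083 : B3083.{u}) (hX : SE p X) {A : Subgroup G} (hA : IsPGroup p A) (hAX : A ≤ X)
    (ρ : Representation (ZMod p) G V) (hρ : Function.Injective ρ) : Nat.card A ^ 2 ≤ Nat.card V := by
  by_cases hA1 : A = ⊥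
  · subst hA1
    rw [Subgroup.card_bot, one_pow]
    exact Nat.card_pos
  · obtain ⟨q, hq, hq1⟩ := (bot_or_exists_ne_one A).resolve_left hA1
    obtain ⟨k, hk⟩ := hA ⟨q, hq⟩
    obtain ⟨T, hT⟩ := hA.exists_le_sylow
    have h1 := h3083 p X (strong_of_se hX (hAX hq) hq1 ⟨k, congrArg Subtype.val hk⟩) T V ρ hρ
    refine (Nat.pow_le_pow_left ?_ 2).trans h1
    exact Nat.card_le_card_of_injective (inclusion hT) (inclusion_injective hT)

/-- the same if the kernel of the representation has exponent `p` -/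
theorem core_sq' (h3083 : B3083.{u}) (hX : SE p X) {A : Subgroup G} (hA : IsPGroup p A) (hAX : A ≤ X)
    (ρ : Representation (ZMod p) G V) (hρ : ∀ g, ρ g = 1 → g ^ p = 1) : Nat.card A ^ 2 ≤ Nat.card V := by
  by_cases hA1 : A = ⊥
  · subst hA1
    rw [Subgroup.card_bot, one_pow]
    exact Nat.card_pos
  · obtain ⟨q, hq, hq1⟩ := (bot_or_exists_ne_one A).resolve_left hA1
    obtain ⟨k, hk⟩ := hA ⟨q, hq⟩
    refine core_sq h3083 hX hA hAX ρ ?_
    rw [← MonoidHom.ker_eq_bot_iff]
    refine normal_eq_bot hX (hAX hq) hq1 ⟨k, congrArg Subtype.val hk⟩ inferInstance ?_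
    rintro ⟨g, hg⟩
    exact ⟨1, Subtype.ext (by rw [pow_one]; exact hρ g hg)⟩

/-- `C_V(A)` -/
def fixS (ρ : Representation (ZMod p) G V) (A : Subgroup G) : Submodule (ZMod p) V where
  carrier := {v | ∀ a ∈ A, ρ a v = v}
  add_mem' {v w} hv hw a ha := by rw [map_add, hv a ha, hw a ha]
  zero_mem' a _ := map_zero _
  smul_mem' c v hv a ha := by rw [map_smul, hv a ha]

/-- `[V, A]` -/
def comS (ρ : Representation (ZMod p) G V) (A : Subgroup G) : Submodule (ZMod p) V :=
  Submodule.span (ZMod p) {w | ∃ a ∈ A, ∃ v, w = ρ a v - v}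

theorem mem_fixS {ρ : Representation (ZMod p) G V} {A : Subgroup G} {v : V} : v ∈ fixS ρ A ↔ ∀ a ∈ A, ρ a v = v :=
  Iff.rfl

theorem mul_apply' (ρ : Representation (ZMod p) G V) (a b : G) (v : V) : ρ (a * b) v = ρ a (ρ b v) := by
  rw [map_mul]; rfl

theorem fixS_sup (ρ : Representation (ZMod p) G V) (A B : Subgroup G) : fixS ρ (A ⊔ B) = fixS ρ A ⊓ fixS ρ B := by
  apply le_antisymm
  · intro v hv
    exact ⟨fun a ha => hv a (mem_sup_left ha), fun a ha => hv a (mem_sup_right ha)⟩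
  · rintro v ⟨h1, h2⟩ g hg
    let St : Subgroup G :=
      { carrier := {g | ρ g v = v}
        one_mem' := by
          change ρ 1 v = v
          rw [map_one]; rfl
        mul_mem' := fun {a b} ha hb => by
          change ρ (a * b) v = v
          rw [mul_apply', show ρ b v = v from hb, show ρ a v = v from ha]
        inv_mem' := fun {a} ha => by
          change ρ a⁻¹ v = v
          have h3 : ρ a v = v := ha
          calc ρ a⁻¹ v = ρ a⁻¹ (ρ a v) := by rw [h3]
            _ = v := by rw [← mul_apply', inv_mul_cancel, map_one]; rfl }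
    have h3 : A ⊔ B ≤ St := sup_le h1 h2
    exact h3 hg

theorem comS_sup_le (ρ : Representation (ZMod p) G V) (A B : Subgroup G) : comS ρ (A ⊔ B) ≤ comS ρ A ⊔ comS ρ B := by
  unfold comS
  rw [Submodule.span_le]
  rintro _ ⟨g, hg, v, rfl⟩
  let N := Submodule.span (ZMod p) {w | ∃ a ∈ A, ∃ v, w = ρ a v - v} ⊔
    Submodule.span (ZMod p) {w | ∃ a ∈ B, ∃ v, w = ρ a v - v}
  let St : Subgroup G :=
    { carrier := {g | ∀ v, ρ g v - v ∈ N}
      one_mem' := fun v => by
        rw [map_one]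
        change v - v ∈ N
        rw [sub_self]
        exact N.zero_mem
      mul_mem' := fun {a b} ha hb v => by
        have e : ρ (a * b) v - v = (ρ a (ρ b v) - ρ b v) + (ρ b v - v) := by rw [mul_apply']; abel
        rw [e]
        exact N.add_mem (ha _) (hb _)
      inv_mem' := fun {a} ha v => by
        have e : ρ a⁻¹ v - v = -(ρ a (ρ a⁻¹ v) - ρ a⁻¹ v) := by
          rw [← mul_apply', mul_inv_cancel, map_one]
          change _ = -(v - _)
          abel
        rw [e]
        exact N.neg_mem (ha _) }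
  have h3 : A ⊔ B ≤ St := sup_le (fun a ha v => Submodule.mem_sup_left (Submodule.subset_span ⟨a, ha, v, rfl⟩))
    (fun a ha v => Submodule.mem_sup_right (Submodule.subset_span ⟨a, ha, v, rfl⟩))
  exact h3 hg v

/-- an element acting quadratically has order dividing `p` -/
theorem pow_eq_one_of_quad (ρ : Representation (ZMod p) G V) (hρ : Function.Injective ρ) {g : G}
    (h : ∀ v, ρ g (ρ g v - v) = ρ g v - v) : g ^ p = 1 := by
  apply hρ
  have h1 : ∀ (k : ℕ) (v : V), ρ (g ^ k) v = v + k • (ρ g v - v) := by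
    intro k
    induction k with
    | zero => intro v; rw [pow_zero, map_one, zero_smul, add_zero]; rfl
    | succ k ih =>
      intro v
      rw [pow_succ', mul_apply', ih, map_add, map_nsmul, h, succ_nsmul]
      abel
  apply LinearMap.ext
  intro v
  rw [h1 p v, map_one]
  have h2 : p • (ρ g v - v) = 0 := by
    rw [← Nat.cast_smul_eq_nsmul (ZMod p), CharP.cast_eq_zero, zero_smul]
  rw [h2, add_zero]
  rfl

/-- conjugation -/
theorem index_fix_conj (ρ : Representation (ZMod p) G V) (A : Subgroup G) (x : G) :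
    (fixS ρ (A.map (MulAut.conj x).toMonoidHom)).toAddSubgroup.index = (fixS ρ A).toAddSubgroup.index := by
  have hinv : ∀ v : V, ρ x (ρ x⁻¹ v) = v := by
    intro v
    rw [← mul_apply', mul_inv_cancel, map_one]; rfl
  have hinv' : ∀ v : V, ρ x⁻¹ (ρ x v) = v := by
    intro v
    rw [← mul_apply', inv_mul_cancel, map_one]; rfl
  have h1 : (fixS ρ A).toAddSubgroup =
      (fixS ρ (A.map (MulAut.conj x).toMonoidHom)).toAddSubgroup.comap (ρ x).toAddMonoidHom := by
    ext v
    constructor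
    · rintro hv _ ⟨a, ha, rfl⟩
      change ρ (x * a * x⁻¹) (ρ x v) = ρ x v
      rw [← mul_apply', inv_mul_cancel_right, mul_apply', hv a ha]
    · intro hv a ha
      have h2 : ρ (x * a * x⁻¹) (ρ x v) = ρ x v := hv _ ⟨a, ha, rfl⟩
      rw [← mul_apply', inv_mul_cancel_right, mul_apply'] at h2
      have h3 : ρ x⁻¹ (ρ x (ρ a v)) = ρ x⁻¹ (ρ x v) := congrArg (ρ x⁻¹) h2
      rwa [hinv', hinv'] at h3
  rw [h1, AddSubgroup.index_comap_of_surjective]
  intro v
  exact ⟨ρ x⁻¹ v, hinv v⟩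

theorem card_com_conj_le (ρ : Representation (ZMod p) G V) (A : Subgroup G) (x : G) :
    Nat.card (comS ρ (A.map (MulAut.conj x).toMonoidHom)) ≤ Nat.card (comS ρ A) := by
  have hinv : ∀ v : V, ρ x⁻¹ (ρ x v) = v := by
    intro v
    rw [← mul_apply', inv_mul_cancel, map_one]; rfl
  have h1 : comS ρ (A.map (MulAut.conj x).toMonoidHom) ≤ (comS ρ A).comap (ρ x⁻¹) := by
    unfold comS
    rw [Submodule.span_le]
    rintro _ ⟨_, ⟨a, ha, rfl⟩, v, rfl⟩
    change ρ x⁻¹ (ρ (x * a * x⁻¹) v - v) ∈ comS ρ A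
    have e : ρ x⁻¹ (ρ (x * a * x⁻¹) v - v) = ρ a (ρ x⁻¹ v) - ρ x⁻¹ v := by
      rw [map_sub, ← mul_apply', ← mul_apply']
      congr 2
      group
    rw [e]
    exact Submodule.subset_span ⟨a, ha, _, rfl⟩
  refine Nat.card_le_card_of_injective (fun w => (⟨ρ x⁻¹ w.1, h1 w.2⟩ : comS ρ A)) ?_
  intro w w' h
  have h2 : ρ x⁻¹ w.1 = ρ x⁻¹ w'.1 := congrArg Subtype.val h
  have h3 := congrArg (ρ x) h2
  rw [← mul_apply', ← mul_apply', mul_inv_cancel, map_one] at h3
  exact Subtype.ext h3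

/-- the representation on `V / C_V(J)` -/
def quoRep (ρ : Representation (ZMod p) G V) (J : Subgroup G) : Representation (ZMod p) J (V ⧸ fixS ρ J) where
  toFun g := Submodule.mapQ _ _ (ρ g) (fun v hv => by
    change ρ g v ∈ fixS ρ J
    rw [hv g g.2]
    exact hv)
  map_one' := by
    apply Submodule.linearMap_qext
    ext v
    change Submodule.Quotient.mk (ρ ((1 : J) : G) v) = Submodule.Quotient.mk v
    rw [OneMemClass.coe_one, map_one]
    rfl
  map_mul' g h := by
    apply Submodule.linearMap_qext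
    ext v
    change Submodule.Quotient.mk (ρ ((g * h : J) : G) v) = Submodule.Quotient.mk (ρ (g : G) (ρ (h : G) v))
    rw [coe_mul, mul_apply']

/-- the representation on `[V, J]` -/
def comRep (ρ : Representation (ZMod p) G V) (J : Subgroup G) : Representation (ZMod p) J (comS ρ J) where
  toFun g := (ρ g).restrict (p := comS ρ J) (q := comS ρ J) (fun v hv => by
    have e : ρ g v = (ρ g v - v) + v := by abel
    rw [e]
    exact Submodule.add_mem _ (Submodule.subset_span ⟨g, g.2, v, rfl⟩) hv)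
  map_one' := by
    ext v
    change ρ ((1 : J) : G) v = v
    rw [OneMemClass.coe_one, map_one]
    rfl
  map_mul' g h := by
    ext v
    change ρ ((g * h : J) : G) v = ρ (g : G) (ρ (h : G) v)
    rw [coe_mul, mul_apply']

/-- **`|A|² ≤ |V : C_V(A)| |V : C_V(B)|`** -/
theorem sq_fix (h3083 : B3083.{u}) (hX : SE p X) {A B : Subgroup G} (hA : IsPGroup p A) (hAX : A ≤ X)
    (hB : IsPGroup p B) (hBX : B ≤ X) (hB1 : B ≠ ⊥) (ρ : Representation (ZMod p) G V) (hρ : Function.Injective ρ) :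
    Nat.card A ^ 2 ≤ (fixS ρ A).toAddSubgroup.index * (fixS ρ B).toAddSubgroup.index := by
  obtain ⟨x, X', hX', hle⟩ := exists_J hX hAX hBX hB hB1
  generalize hA' : A.map (MulAut.conj x).toMonoidHom = A' at X' hX' hle
  generalize hJ : A' ⊔ B = J at X' hX' hle
  have hA'p : IsPGroup p A' := hA' ▸ hA.map _
  have hfin : Finite (V ⧸ fixS ρ J) := Finite.of_surjective _ (Submodule.mkQ_surjective (fixS ρ J))
  have hq : ∀ g : J, quoRep ρ J g = 1 → g ^ p = 1 := by
    intro g hg
    apply Subtype.ext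
    rw [SubmonoidClass.coe_pow, OneMemClass.coe_one]
    apply pow_eq_one_of_quad ρ hρ
    intro v
    have h2 : (quoRep ρ J g) (Submodule.Quotient.mk v) = Submodule.Quotient.mk v := by rw [hg]; rfl
    have h3 : (Submodule.Quotient.mk (ρ (g : G) v) : V ⧸ fixS ρ J) = Submodule.Quotient.mk v := h2
    rw [Submodule.Quotient.eq] at h3
    exact h3 g g.2
  have h1 := core_sq' h3083 hX' (A := A'.subgroupOf J) (hA'p.comap_of_injective _ J.subtype_injective) hle
    (quoRep ρ J) hq
  have e1 : Nat.card (A'.subgroupOf J) = Nat.card A := by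
    rw [Nat.card_congr (subgroupOfEquivOfLe (show A' ≤ J from hJ ▸ le_sup_left)).toEquiv, ← hA']
    exact card_map_of_injective (MulAut.conj x).injective
  have e2 : Nat.card (V ⧸ fixS ρ J) = (fixS ρ J).toAddSubgroup.index := (AddSubgroup.index_eq_card _).symm
  rw [e1, e2] at h1
  refine h1.trans ?_
  rw [← hJ, fixS_sup, ← index_fix_conj ρ A x, hA']
  exact AddSubgroup.index_inf_le (H := (fixS ρ A').toAddSubgroup) (K := (fixS ρ B).toAddSubgroup)

/-- **`|A|² ≤ |[V,A]| |[V,B]|`** -/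
theorem sq_com (h3083 : B3083.{u}) (hX : SE p X) {A B : Subgroup G} (hA : IsPGroup p A) (hAX : A ≤ X)
    (hB : IsPGroup p B) (hBX : B ≤ X) (hB1 : B ≠ ⊥) (ρ : Representation (ZMod p) G V) (hρ : Function.Injective ρ) :
    Nat.card A ^ 2 ≤ Nat.card (comS ρ A) * Nat.card (comS ρ B) := by
  obtain ⟨x, X', hX', hle⟩ := exists_J hX hAX hBX hB hB1
  set A' := A.map (MulAut.conj x).toMonoidHom with hA'
  set J := A' ⊔ B with hJ
  have hA'p : IsPGroup p A' := hA.map _
  have h1 := core_sq' h3083 hX' (A := A'.subgroupOf J) (hA'p.comap_of_injective _ J.subtype_injective) hle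
    (comRep ρ J) (fun g hg => by
      apply Subtype.ext
      change (g : G) ^ p = 1
      apply pow_eq_one_of_quad ρ hρ
      intro v
      have hm : ρ (g : G) v - v ∈ comS ρ J := Submodule.subset_span ⟨g, g.2, v, rfl⟩
      have h2 : (comRep ρ J g) ⟨_, hm⟩ = ⟨_, hm⟩ := by rw [hg]; rfl
      exact congrArg Subtype.val h2)
  have e1 : Nat.card (A'.subgroupOf J) = Nat.card A := by
    rw [Nat.card_congr (subgroupOfEquivOfLe (show A' ≤ J from le_sup_left)).toEquiv]
    exact card_map_of_injective (MulAut.conj x).injective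
  rw [e1] at h1
  refine h1.trans ?_
  have h2 : Nat.card (comS ρ J) ≤ Nat.card (comS ρ A' ⊔ comS ρ B : Submodule (ZMod p) V) :=
    Nat.card_le_card_of_injective (Submodule.inclusion (comS_sup_le ρ A' B))
      (Submodule.inclusion_injective _)
  have h3 : Nat.card (comS ρ A' ⊔ comS ρ B : Submodule (ZMod p) V) ≤ Nat.card (comS ρ A') * Nat.card (comS ρ B) := by
    rw [← Nat.card_prod]
    refine Nat.card_le_card_of_surjective
      (fun w : comS ρ A' × comS ρ B => (⟨w.1.1 + w.2.1, Submodule.add_mem_sup w.1.2 w.2.2⟩ :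
        (comS ρ A' ⊔ comS ρ B : Submodule (ZMod p) V))) ?_
    rintro ⟨w, hw⟩
    obtain ⟨a, ha, b, hb, rfl⟩ := Submodule.mem_sup.1 hw
    exact ⟨(⟨a, ha⟩, ⟨b, hb⟩), rfl⟩
  exact h2.trans (h3.trans (Nat.mul_le_mul_right _ (card_com_conj_le ρ A x)))

/-- `|[V, ⟨b⟩]| ≤ |V : C_V(b)|` -/
theorem card_com_zpowers_le (ρ : Representation (ZMod p) G V) (b : G) :
    Nat.card (comS ρ (zpowers b)) ≤ (fixS ρ (zpowers b)).toAddSubgroup.index := by
  let f : V →ₗ[ZMod p] V := ρ b - 1
  have hf : ∀ v, f v = ρ b v - v := fun v => rfl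
  have h1 : comS ρ (zpowers b) ≤ LinearMap.range f := by
    unfold comS
    rw [Submodule.span_le]
    rintro _ ⟨g, hg, v, rfl⟩
    let St : Subgroup G :=
      { carrier := {g | ∀ v, ρ g v - v ∈ LinearMap.range f}
        one_mem' := fun v => by
          rw [map_one]
          change v - v ∈ _
          rw [sub_self]
          exact Submodule.zero_mem _
        mul_mem' := fun {a b} ha hb v => by
          have e : ρ (a * b) v - v = (ρ a (ρ b v) - ρ b v) + (ρ b v - v) := by rw [mul_apply']; abel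
          rw [e]
          exact Submodule.add_mem _ (ha _) (hb _)
        inv_mem' := fun {a} ha v => by
          have e : ρ a⁻¹ v - v = -(ρ a (ρ a⁻¹ v) - ρ a⁻¹ v) := by
            rw [← mul_apply', mul_inv_cancel, map_one]
            change _ = -(v - _)
            abel
          rw [e]
          exact Submodule.neg_mem _ (ha _) }
    have h2 : zpowers b ≤ St := by
      rw [zpowers_le]
      exact fun v => ⟨v, hf v⟩
    exact h2 hg v
  have h2 : LinearMap.ker f ≤ fixS ρ (zpowers b) := by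
    intro v hv
    rw [LinearMap.mem_ker, hf, sub_eq_zero] at hv
    intro a ha
    let St : Subgroup G :=
      { carrier := {g | ρ g v = v}
        one_mem' := by
          change ρ 1 v = v
          rw [map_one]; rfl
        mul_mem' := fun {a b} ha hb => by
          change ρ (a * b) v = v
          rw [mul_apply', show ρ b v = v from hb, show ρ a v = v from ha]
        inv_mem' := fun {a} ha => by
          change ρ a⁻¹ v = v
          have h3 : ρ a v = v := ha
          calc ρ a⁻¹ v = ρ a⁻¹ (ρ a v) := by rw [h3]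
            _ = v := by rw [← mul_apply', inv_mul_cancel, map_one]; rfl }
    have h3 : zpowers b ≤ St := by
      rw [zpowers_le]
      exact hv
    exact h3 ha
  have h3 : fixS ρ (zpowers b) ≤ LinearMap.ker f := by
    intro v hv
    rw [LinearMap.mem_ker, hf, sub_eq_zero]
    exact hv b (mem_zpowers b)
  have h4 : fixS ρ (zpowers b) = LinearMap.ker f := le_antisymm h3 h2
  rw [h4]
  refine (Nat.card_le_card_of_injective (Submodule.inclusion h1) (Submodule.inclusion_injective _)).trans ?_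
  have h5 : Nat.card (LinearMap.range f) = (LinearMap.ker f).toAddSubgroup.index := by
    have h6 := AddSubgroup.index_ker f.toAddMonoidHom
    exact h6.symm
  rw [h5]

end Rep

end Cfsg.Agent.H205.TE
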