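import Mathlib
import Cfsg.Agent.H205.TE.Abs
import Cfsg.Agent.H218.Fus.EssLib
import Cfsg.Agent.H802.TE.Defs

/-!
# S5261 (hub helper802), task 5404 = TE-P2 (helper205): `StP2`, `StP2c`, `StP2w`, `StBd`

All from `B3083` (the statement of S3083; its closure is large, it is plugged in in `H205/TE/P2Fin.lean`).
-/

set_option autoImplicit false
set_option linter.unusedSectionVars false

namespace Cfsg.Agent.H205.TE

open Subgroup Cfsg Cfsg.FusionSystem Cfsg.Agent.H756.PU Cfsg.Agent.H218.Fus Cfsg.Agent.H802.TE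
open Cfsg.Agent.H775.PU (B3083 act act_mk mem_ker_act ker_act_le inn_le_ker lin lin_apply lin_injective)

universe u

/-- the group `Out_F(E)`, acting on `E / Φ(E)` -/
structure Setup {Ω : Type u} [Group Ω] (S E : Subgroup Ω) (p : ℕ) where
  K : Type u
  gK : Group K
  fK : Finite K
  V : Type u
  aV : AddCommGroup V
  mV : Module (ZMod p) V
  fV : Finite V
  ρ : Representation (ZMod p) K V
  X : Subgroup K
  ψ : normalizerIn S E →* K
  π : Additive E →+ V
  inj : Function.Injective ρ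
  se : SE p X
  ker : ψ.ker = E.subgroupOf (normalizerIn S E)
  rg : ∀ a, ψ a ∈ X
  sur : Function.Surjective π
  kerπ : ∀ e : E, π (Additive.ofMul e) = 0 ↔ e ∈ frattini E
  act : ∀ (a : normalizerIn S E) (e e' : E), (e' : Ω) = a * e * (a : Ω)⁻¹ →
    ρ (ψ a) (π (Additive.ofMul e)) = π (Additive.ofMul e')

attribute [instance] Setup.gK Setup.fK Setup.aV Setup.mV Setup.fV

variable {Ω : Type u} [Group Ω] {S E : Subgroup Ω} {p : ℕ} {Γ : Subgroup (MulAut E)}

theorem exists_setup (h : Ess S E p Γ) : Nonempty (Setup S E p) := by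
  have hfE : Finite E := Cfsg.Agent.H775.PU.finE h
  have := Fact.mk h.pp
  have := h.fin
  have hpE : IsPGroup p E := Cfsg.Agent.H775.PU.pE h
  obtain ⟨H, hHΓ, hHne, hAH, hAI, hspe⟩ := h.spe
  set C := (act Γ).ker with hC
  have hCI : ∀ g : Γ, g ∈ C ↔ (g : MulAut E) ∈ Inn E := fun g => ⟨ker_act_le h g, inn_le_ker h g⟩
  have hcomm : ∀ a b : E ⧸ frattini E, a * b = b * a := by
    intro a b
    obtain ⟨a, rfl⟩ := QuotientGroup.mk_surjective a
    obtain ⟨b, rfl⟩ := QuotientGroup.mk_surjective b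
    rw [← QuotientGroup.mk_mul, ← QuotientGroup.mk_mul, QuotientGroup.eq]
    have h1 := Cfsg.Agent.Lib.FrattiniPGroup.commutator_le_frattini hpE
      (Subgroup.commutator_mem_commutator (mem_top b⁻¹) (mem_top a⁻¹))
    rw [commutatorElement_def] at h1
    convert h1 using 1
    group
  let cg : CommGroup (E ⧸ frattini E) :=
    { (inferInstance : Group (E ⧸ frattini E)) with mul_comm := hcomm }
  have hpow : ∀ x : E ⧸ frattini E, x ^ p = 1 := by
    intro x
    obtain ⟨x, rfl⟩ := QuotientGroup.mk_surjective x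
    rw [← QuotientGroup.mk_pow, QuotientGroup.eq_one_iff]
    exact Cfsg.Agent.Lib.FrattiniPGroup.pow_mem_frattini hpE x
  obtain ⟨inst⟩ : Nonempty (Module (ZMod p) (Additive (E ⧸ frattini E))) :=
    ⟨AddCommGroup.zmodModule (n := p) (fun v => by exact hpow v.toMul)⟩
  have hSEm : SEm p C (H.subgroupOf Γ) := by
    refine ⟨?_, ?_, ?_⟩
    · intro g hg
      rw [mem_subgroupOf]
      exact hAH (inn_le_T h ((hCI g).1 hg))
    · by_contra hcon
      push Not at hcon
      exact hHne (le_antisymm hHΓ fun g hg => hcon ⟨g, hg⟩)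
    · intro q hq hqC hqp g hg hgq
      apply hqC
      rw [hCI]
      refine hspe g g.2 (fun h' => hg h') q hq hgq ?_
      obtain ⟨k, hk⟩ := hqp
      exact ⟨k, congrArg Subtype.val hk⟩
  let c : normalizerIn S E →* MulAut E :=
    (normalizerMonoidHom E).comp (inclusion (inf_le_right : normalizerIn S E ≤ normalizer (E : Set Ω)))
  have hc : ∀ (r : normalizerIn S E) (x : E), ((c r x : E) : Ω) = r * x * (r : Ω)⁻¹ := fun r x => rfl
  have hcA : ∀ r, c r ∈ autInducedBy S E := fun r =>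
    (Cfsg.Agent.H802.mem_autInducedBy_iff _ _ _).2 ⟨r, r.2.1, fun x => rfl⟩
  let cΓ : normalizerIn S E →* Γ := c.codRestrict Γ (fun r => h.indu (hcA r))
  refine ⟨{ K := Γ ⧸ C, gK := inferInstance, fK := inferInstance, V := Additive (E ⧸ frattini E),
            aV := inferInstance, mV := inst, fV := inferInstanceAs (Finite (E ⧸ frattini E)),
            ρ := lin p (QuotientGroup.kerLift (act Γ)), X := (H.subgroupOf Γ).map (QuotientGroup.mk' C),
            ψ := (QuotientGroup.mk' C).comp cΓ,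
            π := MonoidHom.toAdditive (QuotientGroup.mk' (frattini E)),
            inj := lin_injective p (QuotientGroup.kerLift_injective (act Γ)),
            se := hSEm.quot, ker := ?_, rg := ?_, sur := ?_, kerπ := ?_, act := ?_ }⟩
  · ext r
    rw [MonoidHom.mem_ker, mem_subgroupOf]
    change (QuotientGroup.mk' C) (cΓ r) = 1 ↔ _
    rw [QuotientGroup.mk'_apply, QuotientGroup.eq_one_iff, hCI]
    constructor
    · intro h1
      exact mem_of_inn h r.2.1 (α := c r) (fun e => hc r e) h1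
    · intro h1
      refine ⟨⟨r, h1⟩, ?_⟩
      ext x
      rfl
  · intro r
    exact ⟨cΓ r, mem_subgroupOf.2 (hAH (hcA r)), rfl⟩
  · intro v
    obtain ⟨e, he⟩ := QuotientGroup.mk'_surjective (frattini E) v.toMul
    exact ⟨Additive.ofMul e, he⟩
  · intro e
    exact QuotientGroup.eq_one_iff e
  · intro a e e' hee
    have h1 : e' = c a e := Subtype.ext (hee.trans (hc a e).symm)
    rw [h1]
    rfl

section use

variable (D : Setup S E p) [hp : Fact p.Prime]

/-- the image of `A ≤ N_S(E)` -/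
def Setup.im (A : Subgroup Ω) : Subgroup D.K := (A.subgroupOf (normalizerIn S E)).map D.ψ

theorem Setup.mem_im {A : Subgroup Ω} (hA : A ≤ normalizerIn S E) {a : Ω} (ha : a ∈ A) : D.ψ ⟨a, hA ha⟩ ∈ D.im A :=
  ⟨⟨a, hA ha⟩, mem_subgroupOf.2 ha, rfl⟩

theorem Setup.card_im {A : Subgroup Ω} (hA : A ≤ normalizerIn S E) : Nat.card (D.im A) = E.relIndex A := by
  have h1 := Subgroup.relIndex_ker (K := A.subgroupOf (normalizerIn S E)) D.ψ
  rw [D.ker, relIndex_subgroupOf hA] at h1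
  exact h1.symm

theorem Setup.im_le (A : Subgroup Ω) : D.im A ≤ D.X := by
  rintro _ ⟨a, -, rfl⟩
  exact D.rg a

theorem Setup.pg (h : Ess S E p Γ) (A : Subgroup Ω) : IsPGroup p (D.im A) := by
  have hpN : IsPGroup p (normalizerIn S E) :=
    h.pgr.of_injective (inclusion (inf_le_left : normalizerIn S E ≤ S)) (inclusion_injective _)
  exact (hpN.to_subgroup _).map _

theorem Setup.ne_bot {B : Subgroup Ω} (hB : B ≤ normalizerIn S E) (hBE : ¬ B ≤ E) : D.im B ≠ ⊥ := by
  intro h1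
  apply hBE
  intro b hb
  have h2 : D.ψ ⟨b, hB hb⟩ = 1 := by
    have h3 := D.mem_im hB hb
    rw [h1, mem_bot] at h3
    exact h3
  have h3 : (⟨b, hB hb⟩ : normalizerIn S E) ∈ D.ψ.ker := h2
  rw [D.ker, mem_subgroupOf] at h3
  exact h3

/-- `|V : C_V(A)| ≤ |E : X|` -/
theorem Setup.fix_le (h : Ess S E p Γ) {P : Subgroup D.K} {X : Subgroup Ω}
    (hPX : ∀ x : E, (x : Ω) ∈ X → D.π (Additive.ofMul x) ∈ fixS D.ρ P) :
    (fixS D.ρ P).toAddSubgroup.index ≤ X.relIndex E := by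
  have := Cfsg.Agent.H775.PU.finE h
  have h1 : Subgroup.toAddSubgroup (X.subgroupOf E) ≤ (fixS D.ρ P).toAddSubgroup.comap D.π := by
    intro x hx
    exact hPX x.toMul hx
  have h2 : ((fixS D.ρ P).toAddSubgroup.comap D.π).index = (fixS D.ρ P).toAddSubgroup.index :=
    AddSubgroup.index_comap_of_surjective _ D.sur
  rw [← h2]
  have h3 : (Subgroup.toAddSubgroup (X.subgroupOf E)).index = X.relIndex E := Subgroup.index_toAddSubgroup
  rw [← h3]
  refine Nat.le_of_dvd (Nat.pos_of_ne_zero ?_) (AddSubgroup.index_dvd_of_le h1)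
  rw [h3]
  exact Subgroup.index_ne_zero_of_finite

/-- `|[V,A]| ≤ |W : Y|` -/
theorem Setup.com_le (h : Ess S E p Γ) {A W Y : Subgroup Ω} (hA : A ≤ normalizerIn S E) (hW : W ≤ E)
    (hAW : Com A E W) (hY : Y ≤ Phi E) : Nat.card (comS D.ρ (D.im A)) ≤ Y.relIndex W := by
  have := Cfsg.Agent.H775.PU.finE h
  let im := (Subgroup.toAddSubgroup (W.subgroupOf E)).map D.π
  have h1 : comS D.ρ (D.im A) ≤ AddSubgroup.toZModSubmodule p im := by
    unfold comS
    rw [Submodule.span_le]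
    rintro _ ⟨_, ⟨a, ha, rfl⟩, v, rfl⟩
    obtain ⟨e, rfl⟩ := D.sur v
    have hae : (a : Ω) * (e.toMul : E) * (a : Ω)⁻¹ ∈ E := (mem_normalizer_iff.1 a.2.2 _).1 (e.toMul).2
    have h2 := D.act a e.toMul ⟨_, hae⟩ rfl
    change D.ρ (D.ψ a) (D.π (Additive.ofMul e.toMul)) - D.π e ∈ im
    rw [h2]
    refine ⟨Additive.ofMul (⟨_, hae⟩ * (e.toMul)⁻¹), ?_, ?_⟩
    · exact hAW a (mem_subgroupOf.1 ha) _ (e.toMul).2
    · rw [ofMul_mul, ofMul_inv, map_add, map_neg, ← sub_eq_add_neg]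
      rfl
  have h2 : Nat.card (comS D.ρ (D.im A)) ≤ Nat.card im :=
    Nat.card_le_card_of_injective (Submodule.inclusion h1) (Submodule.inclusion_injective _)
  refine h2.trans ?_
  have h3 : Nat.card im = D.π.ker.relIndex (Subgroup.toAddSubgroup (W.subgroupOf E)) :=
    (AddSubgroup.relIndex_ker _ _).symm
  have h4 : D.π.ker = Subgroup.toAddSubgroup (frattini E) := by
    ext e
    rw [AddMonoidHom.mem_ker]
    exact D.kerπ e.toMul
  have h5 : (Subgroup.toAddSubgroup (frattini E)).relIndex (Subgroup.toAddSubgroup (W.subgroupOf E)) =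
      (frattini E).relIndex (W.subgroupOf E) := Subgroup.relIndex_toAddSubgroup
  rw [h3, h4, h5, ← relIndex_subgroupOf (H := Y) hW]
  refine Nat.le_of_dvd (Nat.pos_of_ne_zero ?_) (relIndex_dvd_of_le_left _ ?_)
  · rw [relIndex]
    exact Subgroup.index_ne_zero_of_finite
  · intro y hy
    obtain ⟨z, hz, hzy⟩ := hY (mem_subgroupOf.1 hy)
    have : z = y := Subtype.ext hzy
    rwa [← this]

theorem Setup.fix_of_com {A X : Subgroup Ω} (hX : Com A X (Phi E)) (x : E) (hx : (x : Ω) ∈ X) :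
    D.π (Additive.ofMul x) ∈ fixS D.ρ (D.im A) := by
  rintro _ ⟨a, ha, rfl⟩
  have hae : (a : Ω) * x * (a : Ω)⁻¹ ∈ E := (mem_normalizer_iff.1 a.2.2 _).1 x.2
  rw [D.act a x ⟨_, hae⟩ rfl, ← sub_eq_zero]
  have h1 : D.π (Additive.ofMul (⟨_, hae⟩ * x⁻¹)) = 0 := by
    rw [D.kerπ]
    obtain ⟨z, hz, hzy⟩ := hX a (mem_subgroupOf.1 ha) x hx
    have : z = ⟨_, hae⟩ * x⁻¹ := Subtype.ext hzy
    rwa [← this]
  rwa [ofMul_mul, ofMul_inv, map_add, map_neg, ← sub_eq_add_neg] at h1

end use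

/-- (P2) -/
theorem stP2_of (h3083 : B3083.{u}) : StP2.{u} := by
  intro Ω _ S E p Γ h A B W W' Y Y' hA hB hBE hW hW' hAW hBW hY hY'
  have := Fact.mk h.pp
  obtain ⟨D⟩ := exists_setup h
  have h1 := sq_com h3083 D.se (D.pg h A) (D.im_le A) (D.pg h B) (D.im_le B) (D.ne_bot hB hBE) D.ρ D.inj
  rw [D.card_im hA] at h1
  exact h1.trans (Nat.mul_le_mul (D.com_le h hA hW hAW hY) (D.com_le h hB hW' hBW hY'))

/-- (P2w) -/
theorem stP2w_of (h3083 : B3083.{u}) : StP2w.{u} := by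
  intro Ω _ S E p Γ h A B X X' hA hB hBE hX hX' hAX hBX
  have := Fact.mk h.pp
  obtain ⟨D⟩ := exists_setup h
  have h1 := sq_fix h3083 D.se (D.pg h A) (D.im_le A) (D.pg h B) (D.im_le B) (D.ne_bot hB hBE) D.ρ D.inj
  rw [D.card_im hA] at h1
  exact h1.trans (Nat.mul_le_mul (D.fix_le h (D.fix_of_com hAX)) (D.fix_le h (D.fix_of_com hBX)))

/-- (P2c) -/
theorem stP2c_of (h3083 : B3083.{u}) : StP2c.{u} := by
  intro Ω _ S E p Γ h A W Y X b hA hb hbE hW hAW hY hX hbX
  have := Fact.mk h.pp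
  obtain ⟨D⟩ := exists_setup h
  let β : D.K := D.ψ ⟨b, hb⟩
  have hβ1 : β ≠ 1 := by
    intro h1
    have h2 : (⟨b, hb⟩ : normalizerIn S E) ∈ D.ψ.ker := h1
    rw [D.ker, mem_subgroupOf] at h2
    exact hbE h2
  have hle : zpowers β ≤ D.im (normalizerIn S E) := by
    rw [zpowers_le]
    exact D.mem_im le_rfl hb
  have hBp : IsPGroup p (zpowers β) := (D.pg h (normalizerIn S E)).to_le hle
  have h1 := sq_com h3083 D.se (D.pg h A) (D.im_le A) hBp (hle.trans (D.im_le _)) (by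
    rw [Ne, zpowers_eq_bot]; exact hβ1) D.ρ D.inj
  rw [D.card_im hA] at h1
  refine h1.trans (Nat.mul_le_mul (D.com_le h hA hW hAW hY) ((card_com_zpowers_le D.ρ β).trans (D.fix_le h ?_)))
  intro x hx
  have hae : (b : Ω) * x * (b : Ω)⁻¹ ∈ E := (mem_normalizer_iff.1 hb.2 _).1 x.2
  have h2 : D.ρ β (D.π (Additive.ofMul x)) = D.π (Additive.ofMul x) := by
    rw [D.act ⟨b, hb⟩ x ⟨_, hae⟩ rfl, ← sub_eq_zero]
    have h1 : D.π (Additive.ofMul (⟨_, hae⟩ * x⁻¹)) = 0 := by
      rw [D.kerπ]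
      obtain ⟨z, hz, hzy⟩ := hbX x hx
      have : z = ⟨_, hae⟩ * x⁻¹ := Subtype.ext hzy
      rwa [← this]
    rwa [ofMul_mul, ofMul_inv, map_add, map_neg, ← sub_eq_add_neg] at h1
  intro g hg
  have h3 : ∀ k : ℕ, D.ρ (β ^ k) (D.π (Additive.ofMul x)) = D.π (Additive.ofMul x) := by
    intro k
    induction k with
    | zero => rw [pow_zero, map_one]; rfl
    | succ k ih => rw [pow_succ, mul_apply', h2, ih]
  obtain ⟨k, rfl⟩ := (mem_powers_iff_mem_zpowers.2 hg : g ∈ Submonoid.powers β)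
  exact h3 k

/-- (BD) -/
theorem stBd_of (h3083 : B3083.{u}) : StBd.{u} := by
  intro Ω _ S E p Γ h A Y hA hY
  have := Fact.mk h.pp
  have := Cfsg.Agent.H775.PU.finE h
  obtain ⟨D⟩ := exists_setup h
  have h1 := core_sq h3083 D.se (D.pg h A) (D.im_le A) D.ρ D.inj
  rw [D.card_im hA] at h1
  refine h1.trans ?_
  have h4 : D.π.ker = Subgroup.toAddSubgroup (frattini E) := by
    ext e
    rw [AddMonoidHom.mem_ker]
    exact D.kerπ e.toMul
  have h5 : Nat.card D.V = (frattini E).index := by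
    have h6 := AddSubgroup.index_ker D.π
    rw [h4, AddMonoidHom.range_eq_top.2 D.sur] at h6
    have h7 : (Subgroup.toAddSubgroup (frattini E)).index = (frattini E).index := Subgroup.index_toAddSubgroup
    rw [h7] at h6
    rw [h6]
    exact (Nat.card_congr (AddSubgroup.topEquiv (G := D.V)).toEquiv).symm
  rw [h5]
  refine Nat.le_of_dvd (Nat.pos_of_ne_zero ?_) (index_dvd_of_le (H := Y.subgroupOf E) ?_)
  · exact Subgroup.index_ne_zero_of_finite
  · intro y hy
    obtain ⟨z, hz, hzy⟩ := hY (mem_subgroupOf.1 hy)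
    have : z = y := Subtype.ext hzy
    rwa [← this]

end Cfsg.Agent.H205.TE
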